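import Groth.Agent.SurfAdj.Basic
import Groth.Agent.NegTwist.Sections
import Groth.Agent.RefStalk.Refl
import Groth.Agent.WeakAssLib.Basic

/-!
Nef and ample line bundles on a surface: curves with negative self-intersection.
-/

set_option autoImplicit false
set_option backward.isDefEq.respectTransparency false
set_option backward.isDefEq.respectTransparency.types false
set_option linter.style.haveILetI false
set_option linter.unusedSectionVars false

universe u

open CategoryTheory CategoryTheory.Limits AlgebraicGeometry TopologicalSpace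
open Groth.Agent.Intersect Groth.Agent.Nakai

noncomputable section

namespace Groth.Agent.SurfAdj

/-- Associated points of an integral scheme are generic. -/
theorem eq_genericPoint_of_isAssPoint {W : Scheme.{u}} [IsIntegral W] {y : W}
    (hy : Curv2.IsAssPoint (Coh.structureModule W) y) : y = genericPoint W := by
  obtain ⟨m, hm⟩ := (WeakAssLib.isAssPoint_iff _ y).1 hy
  have hfield : IsField (W.presheaf.stalk y) := by
    rw [IsLocalRing.isField_iff_maximalIdeal_eq]
    have hm0 : m ≠ 0 := fun h0 => (IsLocalRing.maximalIdeal.isMaximal (W.presheaf.stalk y)).ne_top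
      (hm ▸ by rw [h0]; simp)
    rw [← hm, ← Ideal.radical_bot_of_isReduced]
    refine congrArg Ideal.radical (eq_bot_iff.2 fun a ha => ?_)
    obtain ⟨e, -⟩ := RefStalk.exists_structStalk y
    obtain ⟨b, rfl⟩ := e.surjective m
    have h : e (a • b) = e 0 := by rw [map_smul, map_zero]; simpa using ha
    exact (mul_eq_zero.1 (e.injective h)).resolve_right fun hb => hm0 (by rw [hb, map_zero])
  letI := hfield.toField
  obtain ⟨z, hz⟩ := (Scheme.range_fromSpecStalk (X := W) (x := y)).ge
    ((genericPoint_spec W).specializes (Set.mem_univ y))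
  haveI : Subsingleton (PrimeSpectrum (W.presheaf.stalk y)) :=
    ⟨fun a b => PrimeSpectrum.ext ((Ideal.eq_bot_of_prime a.asIdeal).trans (Ideal.eq_bot_of_prime b.asIdeal).symm)⟩
  rw [← hz, @Subsingleton.elim (PrimeSpectrum (W.presheaf.stalk y)) _ z (IsLocalRing.closedPoint (W.presheaf.stalk y)),
    Scheme.fromSpecStalk_closedPoint]

variable (k : Type u) [Field k] [IsAlgClosed k] {X : Scheme.{u}} [X.Over (Spec (CommRingCat.of k))]
  [IsIntegral X] [IsProper (X ↘ Spec (CommRingCat.of k))] [Smooth (X ↘ Spec (CommRingCat.of k))]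
  (hdim : topologicalKrullDim X = 2)

include k hdim

/-- A curve orthogonal to a module of positive self-intersection has negative self-intersection. -/
theorem self_neg_of_orth {L : X.Modules} (hL : PicF.IsInvertible L) (hLL : 0 < inter k L L)
    (C : X.IdealSheafData) [IsIntegral C.subscheme] (hC1 : topologicalKrullDim (C.support : Set X) = 1)
    (horth : FGA.intNum k X 2 ![ClSub.idealMod C, L] (Coh.structureModule X) = 0) :
    FGA.intNum k X 2 ![ClSub.idealMod C, ClSub.idealMod C] (Coh.structureModule X) < 0 := by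
  obtain ⟨H, hH⟩ := exists_ample k hdim
  have hI := inv_ideal k hdim C hC1
  have ho : inter k (ClSub.idealMod C) L = 0 := by rw [← intNum_inter k hdim, horth, Int.cast_zero]
  have h1 := self_nonpos_proper k hdim hL hI hLL (by rw [inter_comm]; exact ho)
  by_contra hc
  push Not at hc
  have hc' : 0 ≤ inter k (ClSub.idealMod C) (ClSub.idealMod C) := by
    rw [← intNum_inter k hdim]; exact_mod_cast hc
  have h2 := inter_eq_zero k hdim hH hL hI hH.1 hLL ho hc'
  have h3 := deg_ample_pos k hdim C hC1 hH
  have h4 : (FGA.intNum k X 2 ![ClSub.idealMod C, H] (Coh.structureModule X) : ℚ) < 0 := by exact_mod_cast h3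
  rw [intNum_inter k hdim, h2] at h4
  exact lt_irrefl _ h4

/-- The criterion of Nakai and Moishezon on a surface. -/
theorem isAmple_of_pos {L : X.Modules} (hL : PicF.IsInvertible L) (hLL : 0 < inter k L L)
    (hdeg : ∀ C : X.IdealSheafData, IsIntegral C.subscheme → topologicalKrullDim (C.support : Set X) = 1 →
      0 < Curv2.euler k X (CohB1.tensorMod (ClSub.quotMod C) L) - Curv2.euler k X (ClSub.quotMod C)) :
    CohB1.IsAmple L := by
  haveI := CurveRR.isNoetherian_of_proper k X
  refine (isAmple_iff k hL).2 fun Z hZ d hd0 hd P hP => ?_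
  have hQ : Coh.IsCoh (ClSub.quotMod Z) := (CurveRR.isCoh_idealMod Z).2
  have hs := (dim_support_quotMod Z).trans hd
  rw [exists_coeff_eq k _ hQ (fun _ => hL) hs.le P hP, ← D_replicate]
  have hle : (d : WithBot ℕ∞) ≤ ((2 : ℕ) : WithBot ℕ∞) :=
    hd.ge.trans ((topologicalKrullDim_subspace_le X _).trans hdim.le)
  obtain rfl | rfl : d = 1 ∨ d = 2 := by
    have : d ≤ 2 := by exact_mod_cast hle
    omega
  · have h := hdeg Z hZ hd
    rw [List.replicate_one, D_one]
    have h' : (0 : ℚ) < (Curv2.euler k X (CohB1.tensorMod (ClSub.quotMod Z) L) : ℚ) -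
        Curv2.euler k X (ClSub.quotMod Z) := by exact_mod_cast h
    linarith
  · have hgen : genericPoint X ∈ (Z.support : Set X) := by
      by_contra h
      have hlt := dim_proper_lt (X := X) (ξ := genericPoint X) (n := 2) (by
          rw [genericPoint_closure]
          exact lt_succ_of_le' ((topologicalKrullDim_subspace_le X _).trans hdim.le))
        Z.support.isClosed (fun x _ => by rw [genericPoint_closure]; trivial) h
      rw [hd] at hlt
      exact lt_irrefl _ hlt
    have huniv : (Z.support : Set X) = Set.univ := Set.eq_univ_of_univ_subset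
      (genericPoint_closure (α := X) ▸ Z.support.isClosed.closure_subset_iff.2 (Set.singleton_subset_iff.2 hgen))
    have hbot : Z = ⊥ := by
      have h1 := ker_eq_vanishingIdeal Z.subschemeι
      rw [Scheme.IdealSheafData.ker_subschemeι] at h1
      have h2 := ker_eq_vanishingIdeal (𝟙 X)
      rw [h1]
      refine Eq.trans ?_ (h2.symm.trans (Scheme.Hom.ker_eq_bot _))
      congr 1
      refine TopologicalSpace.Closeds.ext ?_
      simp [huniv]
    subst hbot
    rw [D_iso k _ (Intersect.nonempty_quot_bot (X := X)).some,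
      show D k (List.replicate 2 L) (Coh.structureModule X) = inter k L L from rfl]
    simpa using hLL

/-- A curve of non-negative self-intersection has non-negative degree for an effective module. -/
theorem deg_nonneg_of_self_nonneg {L : X.Modules} (hL : PicF.IsInvertible L) (s : Coh.structureModule X ⟶ L)
    (hs : s ≠ 0) (C : X.IdealSheafData) [IsIntegral C.subscheme] (hC1 : topologicalKrullDim (C.support : Set X) = 1)
    (hCC : 0 ≤ FGA.intNum k X 2 ![ClSub.idealMod C, ClSub.idealMod C] (Coh.structureModule X)) :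
    0 ≤ degOn k C L := by
  classical
  haveI := CurveRR.isNoetherian_of_proper k X
  haveI : Mono s := CurveRR.mono_of_ne_zero TMul.isInvertible_structureModule hL s hs
  have hη : genericPoint X ∈ CohB1.genLocus L s := by
    by_contra h
    exact CurveRR.notMem_support_coker s _ (CurveRR.surjective_stalk_generic hL s hs)
      ((support_coker_section hL s).symm ▸ h)
  obtain ⟨D, hD, -, ⟨e⟩⟩ := NegTwist.exists_cartier_of_section_support hL s
    fun y hy => eq_genericPoint_of_isAssPoint hy ▸ hη
  have hDi := (Groth.Agent.S8914.result D).2 hD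
  have hdeg : degOn k C L = -degOn k C (ClSub.idealMod D) := degOn_inv k C hC1 hDi ⟨e⟩
  obtain ⟨γ, hγdef⟩ : ∃ γ, γ = C.subschemeι (genericPoint C.subscheme) := ⟨_, rfl⟩
  have hCγ : C = SurfAmple.curveOf γ := hγdef ▸ SurfAmple.eq_curveOf C
  have hγ : topologicalKrullDim (closure {γ} : Set X) = ((1 : ℕ) : WithBot ℕ∞) := by
    rw [← SurfAmple.support_curveOf, ← hCγ, hC1]; rfl
  have hν : SurfAmple.ν k γ D = degOn k C L := by rw [SurfAmple.ν, ← hCγ, hdeg]
  have hνC : 0 ≤ SurfAmple.ν k γ (SurfAmple.curveOf γ) := by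
    rw [SurfAmple.ν, ← hCγ, ← inter_idealMod k hdim C hC1 (inv_ideal k hdim C hC1), ← intNum_inter k hdim]
    exact_mod_cast hCC
  obtain ⟨T, hT, hsub⟩ : ∃ T : Finset X, (∀ ξ ∈ T, topologicalKrullDim (closure {ξ} : Set X) = ((1 : ℕ) : WithBot ℕ∞)) ∧
      top (D.support : Set X) 1 ⊆ T :=
    ⟨(finite_top D.support.isClosed (SurfAmple.dim_support_le k hdim hD)).toFinset,
      fun ξ hξ => ((Set.Finite.mem_toFinset _).1 hξ).2, fun ξ hξ => Finset.mem_coe.2 ((Set.Finite.mem_toFinset _).2 hξ)⟩
  obtain ⟨a, ha⟩ := SurfAmple.exists_eq_prod k hdim (regular k hdim) hD T hT hsub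
  rw [← hν, ha, SurfAmple.ν_prod k hγ T a fun ξ hξ => SurfAmple.cartier_curveOf k hdim (regular k hdim) (hT ξ hξ)]
  refine Finset.sum_nonneg fun ξ hξ => mul_nonneg (Nat.cast_nonneg _) ?_
  by_cases h : ξ = γ
  · rw [h]; exact hνC
  refine SurfAmple.ν_nonneg k hγ (SurfAmple.cartier_curveOf k hdim (regular k hdim) (hT ξ hξ)) fun hmem => h ?_
  have hmem' : γ ∈ closure ({ξ} : Set X) := SurfAmple.support_curveOf ξ ▸ hmem
  exact Intersect.eq_of_dim (specializes_iff_mem_closure.2 hmem') (hT ξ hξ).le hγ

end Groth.Agent.SurfAdj
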