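import Groth.Agent.ExtFund.Surface
import Groth.Agent.SurfAmple.Main
import Groth.Agent.AmpleEmb.Closed
import Groth.Agent.Nakai.RealClass
import Groth.Agent.Nakai.AmpleApps
import Groth.Agent.Nakai.NumConnected
import Groth.Agent.Nakai.Main

/-!
Adjunction and consequences for curves on a smooth proper surface over an algebraically closed field.
-/

set_option autoImplicit false
set_option backward.isDefEq.respectTransparency false
set_option linter.style.haveILetI false
set_option linter.unusedSectionVars false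

universe u

open CategoryTheory CategoryTheory.Limits AlgebraicGeometry TopologicalSpace
open Groth.Agent.Intersect Groth.Agent.Nakai

noncomputable section

namespace Groth.Agent.SurfAdj

variable (k : Type u) [Field k] [IsAlgClosed k] {X : Scheme.{u}} [X.Over (Spec (CommRingCat.of k))]
  [IsIntegral X] [IsProper (X ↘ Spec (CommRingCat.of k))] [Smooth (X ↘ Spec (CommRingCat.of k))]
  (hdim : topologicalKrullDim X = 2)

include k hdim

theorem smooth2 : SmoothOfRelativeDimension 2 (X ↘ Spec (CommRingCat.of k)) :=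
  SectRank.smoothOfRelativeDimension_of_dim _ (hdim.trans (by norm_cast))

theorem regular (x : X) : IsRegularLocalRing (X.presheaf.stalk x) :=
  haveI := smooth2 k hdim
  ExtFund.isRegularLocalRing_of_smooth (X ↘ Spec (CommRingCat.of k)) 2 x

theorem exists_ample : ∃ H : X.Modules, CohB1.IsAmple H := by
  obtain ⟨U, hU, hxU, -⟩ := exists_isAffineOpen_mem_and_subset (X := X) (x := genericPoint X) (U := ⊤) trivial
  obtain ⟨I, hI, -, h⟩ := SurfAmple.exists_ample_divisor k hdim (regular k hdim) ⟨U, hU⟩ ⟨_, hxU⟩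
  obtain ⟨L, hL, ⟨e⟩⟩ := W7Hull.exists_tensor_inverse ((Groth.Agent.S8914.result I).2 hI)
  exact ⟨L, h L hL ⟨TMul.commIso _ _ ≪≫ e⟩⟩

theorem exists_emb : ∃ (N : ℕ) (ι : X ⟶ CohB1.ProjSpace N k), IsClosedImmersion ι ∧
    ι ≫ CohB1.ProjSpace.toSpec N k = X ↘ Spec (CommRingCat.of k) := by
  obtain ⟨H, hH⟩ := exists_ample k hdim
  obtain ⟨n, d, r, -, hr, hci, -⟩ := AmpleEmb.exists_closedImmersion_projSpace (X ↘ Spec (CommRingCat.of k)) hH
  exact ⟨n, r, hci, hr⟩

variable {W : X.Modules} (hW : ExtPow.IsExtPow 2 (Omega.sheaf (X ↘ Spec (CommRingCat.of k))) W)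

include hW

theorem isInvertible_W : PicF.IsInvertible W := by
  haveI := smooth2 k hdim
  obtain ⟨N, ι, hci, hι⟩ := exists_emb k hdim
  exact ExtFund.isInvertible_top ι hι hW

/-- Riemann–Roch. -/
theorem riemann_roch {L : X.Modules} (hL : PicF.IsInvertible L) :
    2 * Curv2.euler k X L =
      FGA.intNum k X 2 ![L, L] (Coh.structureModule X) - FGA.intNum k X 2 ![L, W] (Coh.structureModule X) +
        2 * Curv2.euler k X (Coh.structureModule X) := by
  haveI := smooth2 k hdim
  obtain ⟨N, ι, hci, hι⟩ := exists_emb k hdim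
  exact ExtFund.riemann_roch_smooth ι hι hW hdim L hL

/-- Duality. -/
theorem h_eq_dual {L L' : X.Modules} (hL : PicF.IsInvertible L)
    (hLL' : Nonempty (CohB1.tensorMod L' L ≅ Coh.structureModule X)) (i : ℕ) (hi : i ≤ 2) :
    CurveRR.h k L i = CurveRR.h k (CohB1.tensorMod W L') (2 - i) := by
  haveI := smooth2 k hdim
  obtain ⟨N, ι, hci, hι⟩ := exists_emb k hdim
  exact ExtFund.h_eq_dual ι hι hW hL hLL' i hi

omit hW

theorem intNum_inter {A B : X.Modules} :
    (FGA.intNum k X 2 ![A, B] (Coh.structureModule X) : ℚ) = inter k A B := intNum_eq_inter k hdim.le A B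

theorem intNum_comm (A B : X.Modules) :
    FGA.intNum k X 2 ![A, B] (Coh.structureModule X) = FGA.intNum k X 2 ![B, A] (Coh.structureModule X) := by
  have h : (FGA.intNum k X 2 ![A, B] (Coh.structureModule X) : ℚ) = FGA.intNum k X 2 ![B, A] (Coh.structureModule X) := by
    rw [intNum_inter k hdim, intNum_inter k hdim, inter_comm]
  exact_mod_cast h

variable (C : X.IdealSheafData) [IsIntegral C.subscheme] (hC1 : topologicalKrullDim (C.support : Set X) = 1)

include hC1

theorem inv_ideal : PicF.IsInvertible (ClSub.idealMod C) := inv_of_curve k hdim C hC1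

/-- The degree on a curve is an intersection number. -/
theorem deg_eq {L : X.Modules} (hL : PicF.IsInvertible L) :
    Curv2.euler k X (CohB1.tensorMod (ClSub.quotMod C) L) - Curv2.euler k X (ClSub.quotMod C) =
      -FGA.intNum k X 2 ![ClSub.idealMod C, L] (Coh.structureModule X) := by
  have h : ((Curv2.euler k X (CohB1.tensorMod (ClSub.quotMod C) L) - Curv2.euler k X (ClSub.quotMod C) : ℤ) : ℚ) =
      ((-FGA.intNum k X 2 ![ClSub.idealMod C, L] (Coh.structureModule X) : ℤ) : ℚ) := by
    push_cast
    rw [intNum_inter k hdim, inter_comm, inter_idealMod k hdim C hC1 hL, degOn]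
    ring
  exact_mod_cast h

theorem deg_inv {N : X.Modules} (hN : ClSub.IsInverseOf N (ClSub.idealMod C)) :
    Curv2.euler k X (CohB1.tensorMod (ClSub.quotMod C) N) - Curv2.euler k X (ClSub.quotMod C) =
      FGA.intNum k X 2 ![ClSub.idealMod C, ClSub.idealMod C] (Coh.structureModule X) := by
  obtain ⟨e⟩ := hN
  have hI := inv_ideal k hdim C hC1
  have hNi : PicF.IsInvertible N := Intersect.isInvertible_inverse hI ⟨TMul.commIso _ _ ≪≫ e⟩
  have h : (-FGA.intNum k X 2 ![ClSub.idealMod C, N] (Coh.structureModule X) : ℤ) =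
      FGA.intNum k X 2 ![ClSub.idealMod C, ClSub.idealMod C] (Coh.structureModule X) := by
    have h2 : ((-FGA.intNum k X 2 ![ClSub.idealMod C, N] (Coh.structureModule X) : ℤ) : ℚ) =
        ((FGA.intNum k X 2 ![ClSub.idealMod C, ClSub.idealMod C] (Coh.structureModule X) : ℤ) : ℚ) := by
      push_cast
      rw [intNum_inter k hdim, intNum_inter k hdim, inter_inv_right k hdim.le hI ⟨TMul.commIso _ _ ≪≫ e⟩ hI]
      ring
    exact_mod_cast h2
  rw [deg_eq k hdim C hC1 hNi, h]

/-- The Euler characteristic of a curve on the surface. -/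
theorem euler_quot :
    letI : C.subscheme.Over (Spec (CommRingCat.of k)) := ⟨C.subschemeι ≫ (X ↘ Spec (CommRingCat.of k))⟩
    Curv2.euler k X (ClSub.quotMod C) = 1 - Curv2.genus k C.subscheme := by
  letI : C.subscheme.Over (Spec (CommRingCat.of k)) := ⟨C.subschemeι ≫ (X ↘ Spec (CommRingCat.of k))⟩
  haveI : IsProper (C.subscheme ↘ Spec (CommRingCat.of k)) :=
    inferInstanceAs (IsProper (C.subschemeι ≫ (X ↘ Spec (CommRingCat.of k))))
  haveI := CurveRR.isNoetherian_of_proper k X
  have hd : topologicalKrullDim C.subscheme = 1 := by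
    rw [IsHomeomorph.topologicalKrullDim_eq _ C.subschemeι.isClosedEmbedding.isEmbedding.toHomeomorph.isHomeomorph,
      C.range_subschemeι, hC1]
  have h := Intersect.euler_quot_twist k C.subschemeι (TMul.isInvertible_structureModule (X := X))
  rw [Scheme.IdealSheafData.ker_subschemeι, CurveRR.euler_eq_of_iso (SecTwist.unitorR (ClSub.quotMod C)),
    CurveRR.euler_eq_of_iso (PicLoc.pullbackStructureIso C.subschemeι)] at h
  rw [h]
  exact CurveRR.euler_structure (k := k) hd.le ConnDiv.h0_structure

theorem euler_quot_le : Curv2.euler k X (ClSub.quotMod C) ≤ 1 := by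
  have h := euler_quot k hdim C hC1
  omega

theorem subsingleton_h1_iff : Subsingleton (Coh.HH C.subscheme (Coh.structureModule C.subscheme) 1) ↔
    Curv2.euler k X (ClSub.quotMod C) = 1 := by
  letI : C.subscheme.Over (Spec (CommRingCat.of k)) := ⟨C.subschemeι ≫ (X ↘ Spec (CommRingCat.of k))⟩
  haveI : IsProper (C.subscheme ↘ Spec (CommRingCat.of k)) :=
    inferInstanceAs (IsProper (C.subschemeι ≫ (X ↘ Spec (CommRingCat.of k))))
  haveI := CurveRR.isNoetherian_of_proper k C.subscheme
  haveI : Module.Finite k (Coh.HH C.subscheme (Coh.structureModule C.subscheme) 1) :=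
    CohFinite.finite_proper k C.subscheme _ RefStalk.isCoh_structureModule 1
  have h := euler_quot k hdim C hC1
  have hg : Curv2.genus k C.subscheme = 0 ↔ Subsingleton (Coh.HH C.subscheme (Coh.structureModule C.subscheme) 1) :=
    Module.finrank_zero_iff
  rw [← hg]
  omega

include hW in
/-- The adjunction formula. -/
theorem adj : FGA.intNum k X 2 ![ClSub.idealMod C, ClSub.idealMod C] (Coh.structureModule X) -
    FGA.intNum k X 2 ![ClSub.idealMod C, W] (Coh.structureModule X) = -2 * Curv2.euler k X (ClSub.quotMod C) := by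
  haveI := CurveRR.isNoetherian_of_proper k X
  have h := riemann_roch k hdim hW (inv_ideal k hdim C hC1)
  obtain ⟨hI, hQ⟩ := CurveRR.isCoh_idealMod C
  have h2 := CurveRR.euler_add (k := k) (CurveRR.ideal_shortExact C)
  dsimp only at h2
  have h3 : Curv2.euler k X (Coh.structureModule X) =
      Curv2.euler k X (ClSub.idealMod C) + Curv2.euler k X (ClSub.quotMod C) :=
    h2 hI RefStalk.isCoh_structureModule hQ
  omega

/-- An ample module has positive degree on a curve. -/
theorem deg_ample_pos {H : X.Modules} (hH : CohB1.IsAmple H) :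
    FGA.intNum k X 2 ![ClSub.idealMod C, H] (Coh.structureModule X) < 0 := by
  have h := strictNef_of_isAmple k hH C inferInstance hC1
  rw [deg_eq k hdim C hC1 hH.1] at h
  omega

end Groth.Agent.SurfAdj
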