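import Groth.Agent.SurfAdj.Basic
import Groth.Agent.Nakai.SectionDim

/-!
Sections of invertible modules of non-positive degree on a surface.
-/

set_option autoImplicit false
set_option backward.isDefEq.respectTransparency false
set_option linter.style.haveILetI false
set_option linter.unusedSectionVars false

universe u

open CategoryTheory CategoryTheory.Limits AlgebraicGeometry TopologicalSpace
open Groth.Agent.Intersect Groth.Agent.Nakai

noncomputable section

namespace Groth.Agent.SurfAdj

variable (k : Type u) [Field k] {X : Scheme.{u}} [X.Over (Spec (CommRingCat.of k))]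
  [IsIntegral X] [IsProper (X ↘ Spec (CommRingCat.of k))] (hdim : topologicalKrullDim X = 2)

include k hdim

theorem isIso_of_deg_nonpos {L H : X.Modules} (hL : PicF.IsInvertible L) (hH : CohB1.IsAmple H)
    (hle : inter k L H ≤ 0) (s : Coh.structureModule X ⟶ L) (hs : s ≠ 0) : IsIso s := by
  by_contra hi
  have h := deg_pos_of_section k hH hL s hs hi (e := 1) (hdim.trans (by norm_cast))
  rw [show (-1 : ℚ) ^ (1 + 1) = 1 by norm_num, one_mul, List.replicate_one] at h
  exact absurd hle (not_le.2 h)

theorem h0_eq_zero_of_neg {L H : X.Modules} (hL : PicF.IsInvertible L) (hH : CohB1.IsAmple H)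
    (hlt : inter k L H < 0) : CurveRR.h k L 0 = 0 := by
  by_contra h
  obtain ⟨s, hs⟩ := exists_section_of_h0 k (Nat.pos_of_ne_zero h)
  haveI := isIso_of_deg_nonpos k hdim hL hH hlt.le s hs
  rw [inter_iso k (A' := Coh.structureModule X) ((PicGrp.cl_eq_cl_iff _ _).2 ⟨(asIso s).symm⟩), inter_one] at hlt
  exact lt_irrefl _ hlt

omit [IsIntegral X]

theorem euler_eq3 (F : X.Modules) :
    Curv2.euler k X F = (CurveRR.h k F 0 : ℤ) - CurveRR.h k F 1 + CurveRR.h k F 2 := by
  haveI := CurveRR.isNoetherian_of_proper k X
  rw [CurveRR.euler_eq_sum F 3 fun i hi =>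
    Groth.Agent.S0458.result (X := X.toPresheafedSpace.carrier) 2 hdim.le (Coh.toAb F) i (by omega)]
  simp only [Finset.sum_range_succ, Finset.sum_range_zero]
  ring

end Groth.Agent.SurfAdj
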